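import Cfsg.Agent.H81.SmallBlock.Basic
import Cfsg.Agent.H24.FSIndicator
import Cfsg.Agent.H43.Galois
import Cfsg.Agent.Cores.PrincipalLambda

/-!
# Real characters of the principal block

For odd `p` the sum of `ind χ` times the sum of `χ` over `p`-regular elements vanishes over
the non-principal characters of the principal block.  As each such sum is a nonzero rational,
two real characters which are not Galois conjugate are needed.
-/

set_option autoImplicit false

open scoped ComplexConjugate

namespace Cfsg.Agent.H5.RealPrincipal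

open Cfsg Cfsg.Agent

universe u

variable {G : Type u} [Group G] [Fintype G]

/-- A field automorphism acts on character values through a coprime power map. -/
theorem aut_value_pow (σ : ℂ ≃+* ℂ) {k : ℕ}
    (hσ : ∀ z : ℂ, z ^ Nat.card G = 1 → σ z = z ^ k) {χ : G → ℂ}
    (hχ : Cfsg.IsCharacter G χ) (g : G) : σ (χ g) = χ (g ^ k) := by
  obtain ⟨n, ρ, rfl⟩ := hχ
  obtain ⟨b, μ, h1, hμ, hv⟩ := CharBasic.exists_eigenbasis_rep ρ g
  have hk : ∀ (j : ℕ) (i), ρ (g ^ j) (b i) = μ i ^ j • b i := by
    intro j i
    induction j with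
    | zero => simp
    | succ j ih =>
      rw [pow_succ, map_mul, Module.End.mul_apply, h1, map_smul, ih, smul_smul, pow_succ, mul_comm]
  rw [hv, map_sum, Representation.character,
    CharBasic.trace_eq_sum_of_eigenbasis b (fun i => μ i ^ k) _ (hk k)]
  refine Finset.sum_congr rfl fun i _ => hσ _ ?_
  obtain ⟨c, hc⟩ : orderOf g ∣ Nat.card G := orderOf_dvd_natCard g
  rw [hc, pow_mul, hμ, one_pow]

open scoped Classical in
/-- The sum over the `p`-regular elements is fixed by field automorphisms. -/
theorem sum_regular_fixed (p : ℕ) (σ : ℂ ≃+* ℂ) {χ : G → ℂ} (hχ : Cfsg.IsCharacter G χ) :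
    σ (∑ x : G with ¬ p ∣ orderOf x, χ x) = ∑ x : G with ¬ p ∣ orderOf x, χ x := by
  obtain ⟨k, hk, hσ⟩ := H43.aut_eq_pow σ (n := Nat.card G) Nat.card_pos.ne'
  rw [map_sum, Finset.sum_congr rfl fun x _ => aut_value_pow σ hσ hχ x]
  refine Finset.sum_equiv (powCoprime hk.symm) (fun x => ?_) (fun x _ => rfl)
  have hx : k.Coprime (orderOf x) := hk.coprime_dvd_right (orderOf_dvd_natCard x)
  simp [powCoprime, Nat.Coprime.orderOf_pow hx.symm]

open scoped Classical in
/-- Frobenius–Schur identity on the regular elements of the principal block. -/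
theorem sum_ind_regular {p : ℕ} [Fact p.Prime] {M : Ideal Cfsg.AlgInt}
    (hM : Cfsg.IsPModular p M) (hp : p ≠ 2) :
    ∑ χ ∈ (H81.SmallBlock.prin M G).erase BlockBasic.trivialIrr,
      conj (H81.SmallBlock.ind χ) * ∑ x : G with ¬ p ∣ orderOf x, (χ : G → ℂ) x = 0 := by
  have h := H81.SmallBlock.sum_ind (G := G) hM hp
  rw [← Finset.add_sum_erase _ _ (H81.SmallBlock.trivial_mem hM), H81.SmallBlock.ind_trivial,
    map_one, one_mul] at h
  simp only [BlockBasic.trivialIrr, Finset.sum_const, nsmul_eq_mul, mul_one] at h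
  have h0 := add_eq_left.1 h
  rw [← neg_eq_zero, ← Finset.sum_neg_distrib]
  refine Eq.trans (Finset.sum_congr rfl fun χ hχ => ?_) h0
  rw [← mul_neg]
  congr 1
  have h1 := CharBasic.classInner_irrCharacter χ BlockBasic.trivialIrr
  rw [CharBasic.classInner_def, if_neg (Finset.ne_of_mem_erase hχ),
    inv_mul_eq_iff_eq_mul₀ (Nat.cast_ne_zero.2 Nat.card_pos.ne'), mul_zero] at h1
  simp only [BlockBasic.trivialIrr, map_one, mul_one] at h1
  rw [← Finset.sum_filter_add_sum_filter_not Finset.univ (fun g : G => p ∣ orderOf g)] at h1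
  linear_combination -h1

end Cfsg.Agent.H5.RealPrincipal
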